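import Mathlib

/-! Transport of a Hopf algebra to a small universe. -/

set_option autoImplicit false

open TensorProduct

universe u v w

namespace Groth.Agent.HopfShrink

theorem exists_small (R : Type u) [CommRing R] (A : Type v) [CommRing A] [HopfAlgebra R A]
    [Small.{w} A] :
    ∃ (B : Type w) (_ : CommRing B) (_ : HopfAlgebra R B), Nonempty (B ≃ₐc[R] A) := by
  let e0 : Shrink.{w} A ≃ A := (equivShrink A).symm
  letI iR : CommRing (Shrink.{w} A) := e0.commRing
  letI iA : Algebra R (Shrink.{w} A) := e0.algebra R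
  letI iC : Coalgebra R (Shrink.{w} A) := e0.coalgebra R
  let E : Shrink.{w} A ≃ₐ[R] A := e0.algEquiv R
  have hC : ∀ x, CoalgebraStruct.comul (R := R) (A := Shrink.{w} A) x =
      Algebra.TensorProduct.map (E.symm : A →ₐ[R] Shrink.{w} A) (E.symm : A →ₐ[R] Shrink.{w} A)
        (Bialgebra.comulAlgHom R A (E x)) := fun x => rfl
  have he : ∀ x, CoalgebraStruct.counit (R := R) (A := Shrink.{w} A) x =
      Bialgebra.counitAlgHom R A (E x) := fun x => rfl
  letI iB : Bialgebra R (Shrink.{w} A) := Bialgebra.mk' R _
    (by rw [he, map_one, map_one]) (by intro a b; rw [he, he, he, map_mul, map_mul])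
    (by rw [hC, map_one, map_one, map_one]) (by intro a b; rw [hC, hC, hC, map_mul, map_mul, map_mul])
  let S : Shrink.{w} A →ₗ[R] Shrink.{w} A :=
    E.symm.toLinearMap ∘ₗ HopfAlgebraStruct.antipode R ∘ₗ E.toLinearMap
  have key : ∀ (f g : A →ₗ[R] A) (t : A ⊗[R] A),
      LinearMap.mul' R (Shrink.{w} A) (TensorProduct.map (E.symm.toLinearMap ∘ₗ f ∘ₗ E.toLinearMap)
        (E.symm.toLinearMap ∘ₗ g ∘ₗ E.toLinearMap)
        (Algebra.TensorProduct.map (E.symm : A →ₐ[R] Shrink.{w} A) (E.symm : A →ₐ[R] Shrink.{w} A) t)) =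
      E.symm (LinearMap.mul' R A (TensorProduct.map f g t)) := by
    intro f g t
    induction t using TensorProduct.induction_on with
    | zero => simp
    | tmul a b => simp
    | add x y hx hy => simp only [map_add, hx, hy]
  have hid : E.symm.toLinearMap ∘ₗ LinearMap.id ∘ₗ E.toLinearMap =
      (LinearMap.id : Shrink.{w} A →ₗ[R] Shrink.{w} A) := by
    ext x
    simp
  letI iH : HopfAlgebra R (Shrink.{w} A) :=
    { toBialgebra := iB
      antipode := S
      mul_antipode_rTensor_comul := by
        refine LinearMap.ext fun x => ?_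
        have h := key (HopfAlgebraStruct.antipode R) LinearMap.id (Bialgebra.comulAlgHom R A (E x))
        rw [hid] at h
        show LinearMap.mul' R _ (S.rTensor _ (CoalgebraStruct.comul x)) = algebraMap R _ (CoalgebraStruct.counit x)
        rw [hC, he]
        refine h.trans ?_
        have h2 := LinearMap.congr_fun (HopfAlgebra.mul_antipode_rTensor_comul (R := R) (A := A)) (E x)
        simp only [LinearMap.comp_apply, LinearMap.rTensor_def] at h2
        rw [Bialgebra.comulAlgHom_apply, h2, Algebra.linearMap_apply, AlgEquiv.commutes,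
          Bialgebra.counitAlgHom_apply]
      mul_antipode_lTensor_comul := by
        refine LinearMap.ext fun x => ?_
        have h := key LinearMap.id (HopfAlgebraStruct.antipode R) (Bialgebra.comulAlgHom R A (E x))
        rw [hid] at h
        show LinearMap.mul' R _ (S.lTensor _ (CoalgebraStruct.comul x)) = algebraMap R _ (CoalgebraStruct.counit x)
        rw [hC, he]
        refine h.trans ?_
        have h2 := LinearMap.congr_fun (HopfAlgebra.mul_antipode_lTensor_comul (R := R) (A := A)) (E x)
        simp only [LinearMap.comp_apply, LinearMap.lTensor_def] at h2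
        rw [Bialgebra.comulAlgHom_apply, h2, Algebra.linearMap_apply, AlgEquiv.commutes,
          Bialgebra.counitAlgHom_apply] }
  refine ⟨Shrink.{w} A, iR, iH, ⟨BialgEquiv.ofAlgEquiv E (AlgHom.ext fun x => (he x).symm) ?_⟩⟩
  refine AlgHom.ext fun x => ?_
  show Algebra.TensorProduct.map (E : Shrink.{w} A →ₐ[R] A) (E : Shrink.{w} A →ₐ[R] A)
    (CoalgebraStruct.comul x) = Bialgebra.comulAlgHom R A (E x)
  rw [hC, ← AlgHom.comp_apply, ← Algebra.TensorProduct.map_comp]
  simp

end Groth.Agent.HopfShrink
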